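import Cfsg.Agent.H772.S8.Tool
import Cfsg.Agent.H553.KClass

/-!
# The structure of a group at a prime dividing its order once, with a class number bound (helper826, S4908)

* `normalizer_quot` : normalizers of subgroups of order `r` in `X ⧸ K`, `K` a normal `r'`-subgroup;
* `struct_cls` : `|X| = k s t`, `K` the largest normal `r'`-subgroup, `s` the order of a simple normal subgroup `S` of
  `X ⧸ K`, and `k(X) ≤ |K| t k(S)`;
* `okexp_of_normal` : the exponents of `|K|`.
-/

set_option autoImplicit false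

namespace Cfsg.Agent.H826.S8

open Subgroup Cfsg Cfsg.Agent.H940 Cfsg.Agent.H940.Eng

universe u

/-- normalizers of subgroups of order `r` in a quotient by an `r'`-group -/
theorem normalizer_quot {X : Type u} [Group X] [Finite X] {r : ℕ} (hr : r.Prime) (h2 : ¬ r ^ 2 ∣ Nat.card X)
    {K : Subgroup X} [hKn : K.Normal] {R' : Subgroup (X ⧸ K)} (hR' : Nat.card R' = r) :
    ∃ R : Subgroup X, Nat.card R = r ∧ Nat.card (normalizer (R' : Set (X ⧸ K))) ∣ Nat.card (normalizer (R : Set X)) := by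
  have hrf := Fact.mk hr
  let f : X →* X ⧸ K := QuotientGroup.mk' K
  have hf : Function.Surjective f := QuotientGroup.mk'_surjective K
  have hker : f.ker = K := QuotientGroup.ker_mk' K
  set L : Subgroup X := R'.comap f with hL
  have hLc : Nat.card L = Nat.card K * r := by
    rw [← hR']
    exact MaxCls.card_comap_quot K R'
  have hL2 : ¬ r ^ 2 ∣ Nat.card L := fun h => h2 (h.trans (card_subgroup_dvd_card _))
  obtain ⟨x, hx⟩ := exists_prime_orderOf_dvd_card' (G := L) r (by rw [hLc]; exact dvd_mul_left _ _)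
  set R : Subgroup X := zpowers (x : X) with hR
  have hRc : Nat.card R = r := by rw [hR, Nat.card_zpowers, orderOf_coe, hx]
  have hRL : R ≤ L := by rw [hR, zpowers_le]; exact x.2
  have hrK : ¬ r ∣ Nat.card K := by
    intro h
    apply hL2
    rw [hLc, pow_two]
    exact Nat.mul_dvd_mul_right h r
  have hRK : R ⊓ K = ⊥ := by
    have h3 : Nat.card ↥(R ⊓ K) ∣ r := hRc ▸ card_dvd_of_le inf_le_left
    rcases (Nat.dvd_prime hr).1 h3 with h4 | h4
    · exact card_eq_one.1 h4
    · exact absurd (h4 ▸ card_dvd_of_le (inf_le_right : R ⊓ K ≤ K)) hrK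
  have hKL : K ≤ L := by
    rw [← hker]
    exact f.ker_le_comap R'
  have hLsup : L = K ⊔ R := by
    symm
    apply eq_of_le_of_card_ge (sup_le hKL hRL)
    have h3 := card_sup_mul_card_inf K R
    rw [inf_comm, hRK, card_bot, mul_one] at h3
    rw [h3, hLc, hRc]
  refine ⟨R, hRc, ?_⟩
  have key : normalizer (R' : Set (X ⧸ K)) ≤ (normalizer (R : Set X)).map f := by
    intro y hy
    obtain ⟨n, rfl⟩ := hf y
    set R1 : Subgroup X := R.map (MulAut.conj n).toMonoidHom with hR1
    have hR1c : Nat.card R1 = r := by rw [hR1, card_map_of_injective (MulAut.conj n).injective, hRc]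
    have hR1L : R1 ≤ L := by
      rintro _ ⟨z, hz, rfl⟩
      show f (n * z * n⁻¹) ∈ R'
      rw [map_mul, map_mul, map_inv]
      exact (mem_normalizer_iff.1 hy (f z)).1 (hRL hz)
    have h3 : Nat.card (R1.subgroupOf L) = r := by
      rw [Nat.card_congr (subgroupOfEquivOfLe hR1L).toEquiv, hR1c]
    have h4 : Nat.card (R.subgroupOf L) = r := by
      rw [Nat.card_congr (subgroupOfEquivOfLe hRL).toEquiv, hRc]
    obtain ⟨l, hl⟩ := exists_conj_le hr hL2 h3 (L := R.subgroupOf L) (by rw [h4])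
    have hl' : R1.map (MulAut.conj (l : X)).toMonoidHom = R := by
      apply eq_of_le_of_card_ge
      · rintro _ ⟨z, hz, rfl⟩
        exact hl ⟨⟨z, hR1L hz⟩, hz, rfl⟩
      · rw [card_map_of_injective (MulAut.conj (l : X)).injective, hR1c, hRc]
    have hlx : (l : X) * n ∈ normalizer (R : Set X) := by
      rw [← conj_eq_iff]
      have h7 : R.map (MulAut.conj ((l : X) * n)).toMonoidHom =
          (R.map (MulAut.conj n).toMonoidHom).map (MulAut.conj (l : X)).toMonoidHom := by
        rw [map_map]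
        congr 1
        ext z
        simp
      rw [h7]
      exact hl'
    have hlf : f (l : X) ∈ (normalizer (R : Set X)).map f := by
      have hlL : (l : X) ∈ K ⊔ R := hLsup ▸ l.2
      rw [mem_sup_of_normal_left] at hlL
      obtain ⟨a, ha, b, hb, hab⟩ := hlL
      refine ⟨b, le_normalizer hb, ?_⟩
      rw [← hab, map_mul]
      have : f a = 1 := by rw [← MonoidHom.mem_ker, hker]; exact ha
      rw [this, one_mul]
    have h8 : f n = (f (l : X))⁻¹ * f ((l : X) * n) := by rw [map_mul]; group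
    rw [h8]
    exact mul_mem (inv_mem hlf) ⟨_, hlx, rfl⟩
  exact (card_dvd_of_le key).trans (card_map_dvd _ f)

/-- **the structure at a prime dividing the order once** -/
theorem struct_cls {X : Type u} [Group X] [Finite X] {r N : ℕ} (hr : r.Prime) (hrX : r ∣ Nat.card X)
    (h2 : ¬ r ^ 2 ∣ Nat.card X)
    (hN : ∀ R : Subgroup X, Nat.card R = r → Nat.card (normalizer (R : Set X)) ∣ N) :
    ∃ (K : Subgroup X) (s t : ℕ), K.Normal ∧ ¬ r ∣ Nat.card K ∧ Nat.card X = Nat.card K * s * t ∧ t * r ∣ N ∧ r ∣ s ∧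
      ∃ (S : Type u) (_ : Group S) (_ : Finite S), IsSimpleGroup S ∧ Nat.card S = s ∧
        Nat.card (ConjClasses X) ≤ Nat.card K * (t * Nat.card (ConjClasses S)) := by
  have hrf := Fact.mk hr
  obtain ⟨K, ⟨hKn, hrK⟩, hKmax⟩ := exists_card_max (P := fun T : Subgroup X => T.Normal ∧ ¬ r ∣ Nat.card T)
    ⟨⊥, inferInstance, by rw [card_bot]; exact hr.one_lt.ne' ∘ Nat.dvd_one.1⟩
  let f : X →* X ⧸ K := QuotientGroup.mk' K
  have hXY : Nat.card X = Nat.card K * Nat.card (X ⧸ K) := by
    rw [← index_eq_card, card_mul_index]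
  have hY2 : ¬ r ^ 2 ∣ Nat.card (X ⧸ K) := fun h => h2 (hXY ▸ (h.trans (dvd_mul_left _ _)))
  have hrY : r ∣ Nat.card (X ⧸ K) := by
    rw [hXY] at hrX
    exact (hr.dvd_mul.1 hrX).resolve_left hrK
  have hno : ∀ N : Subgroup (X ⧸ K), N.Normal → ¬ r ∣ Nat.card N → N = ⊥ := by
    intro N hN hrN
    have h3 : Nat.card ↥(N.comap f) = Nat.card K * Nat.card N := MaxCls.card_comap_quot K N
    have h4 := hKmax (N.comap f) ⟨hN.comap f, by
      rw [h3]
      intro h
      rcases hr.dvd_mul.1 h with h5 | h5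
      · exact hrK h5
      · exact hrN h5⟩
    rw [h3] at h4
    have h5 : 0 < Nat.card K := Nat.card_pos
    have h6 : 0 < Nat.card N := Nat.card_pos
    have h7 : Nat.card N ≤ 1 := by
      by_contra hlt
      push Not at hlt
      nlinarith
    exact card_eq_one.1 (le_antisymm h7 h6)
  obtain ⟨M, hMn, hMs, hrM, hMd⟩ := Cfsg.Agent.H772.S8.exists_simple hr hrY hY2 (N := N) (fun R' hR' => by
    obtain ⟨R, h3, h4⟩ := normalizer_quot hr h2 hR'
    exact h4.trans (hN R h3)) hno
  have hMt : Nat.card (X ⧸ K) = Nat.card M * M.index := (card_mul_index M).symm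
  refine ⟨K, Nat.card M, M.index, hKn, hrK, by rw [hXY, hMt, mul_assoc], ?_, hrM, M, inferInstance, inferInstance, hMs,
    rfl, ?_⟩
  · rw [hMt, mul_assoc] at hMd
    exact Nat.dvd_of_mul_dvd_mul_left Nat.card_pos hMd
  · have h3 := Cfsg.Agent.H553.KClass.le_mul K
    refine h3.trans (Nat.mul_le_mul Cfsg.Agent.H540.ClassNum.card_conjClasses_le_card ?_)
    exact Cfsg.Agent.H540.ClassNum.le_index_mul' M

/-- an `R`-invariant subgroup of order `p ^ a` -/
theorem mod_of_inv {X : Type u} [Group X] [Finite X] {r p a : ℕ} (hr : r.Prime) (hp : p.Prime) {Q R : Subgroup X}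
    (hR : Nat.card R = r) (hQc : Nat.card Q = p ^ a) (hRQ : R ≤ normalizer (Q : Set X)) :
    ∃ j : ℕ, j ≤ a ∧ p ^ j ∣ Nat.card (centralizer (R : Set X)) ∧ p ^ a ≡ p ^ j [MOD r] := by
  have := Fact.mk hr
  have := Fact.mk hp
  let _ : MulAction R Q := {
    smul := fun a z => ⟨(a : X) * z * (a : X)⁻¹, (mem_normalizer_iff.1 (hRQ a.2) z).1 z.2⟩
    one_smul := fun z => Subtype.ext (by show (1 : X) * z * (1 : X)⁻¹ = z; simp)
    mul_smul := fun a b z => Subtype.ext (by
      show ((a : X) * b) * z * ((a : X) * b)⁻¹ = a * (b * z * (b : X)⁻¹) * (a : X)⁻¹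
      group) }
  have hsm : ∀ (a : R) (z : Q), ((a • z : Q) : X) = (a : X) * z * (a : X)⁻¹ := fun _ _ => rfl
  have hRp : IsPGroup r R := IsPGroup.of_card (n := 1) (by rw [hR, pow_one])
  have hmod : Nat.card Q ≡ Nat.card (MulAction.fixedPoints R Q) [MOD r] := hRp.card_modEq_card_fixedPoints Q
  set D : Subgroup X := Q ⊓ centralizer (R : Set X) with hD
  have hDc : Nat.card (MulAction.fixedPoints R Q) = Nat.card D := by
    refine Nat.card_congr ?_
    refine ⟨fun z => ⟨((z : Q) : X), mem_inf.2 ⟨(z : Q).2, ?_⟩⟩, fun z => ⟨⟨(z : X), (mem_inf.1 z.2).1⟩, ?_⟩, fun z => rfl, fun z => rfl⟩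
    · show ((z : Q) : X) ∈ centralizer (R : Set X)
      rw [mem_centralizer_iff]
      intro a ha
      have h3 := congrArg Subtype.val (z.2 ⟨a, ha⟩)
      rw [hsm] at h3
      have h4 : a * ((z : Q) : X) * a⁻¹ = ((z : Q) : X) := h3
      calc a * ((z : Q) : X) = a * ((z : Q) : X) * a⁻¹ * a := by group
        _ = ((z : Q) : X) * a := by rw [h4]
    · intro a
      apply Subtype.ext
      rw [hsm]
      have h3 := (mem_centralizer_iff.1 (mem_inf.1 z.2).2) (a : X) a.2
      show (a : X) * (z : X) * (a : X)⁻¹ = z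
      rw [h3]
      group
  have hDQ : Nat.card D ∣ p ^ a := hQc ▸ card_dvd_of_le inf_le_left
  obtain ⟨j, hja, hj⟩ := (Nat.dvd_prime_pow hp).1 hDQ
  refine ⟨j, hja, ?_, ?_⟩
  · rw [← hj]
    exact card_dvd_of_le inf_le_right
  · rw [← hQc, ← hj, ← hDc]
    exact hmod

/-- `okexp` for normal `r'`-subgroups of a subgroup -/
theorem okexp_of_normal {G : Type u} [Group G] [Finite G] {ld : LD} (hl : Loc G ld) {T : Subgroup G}
    (hrT : ld.r ∣ Nat.card T) {K : Subgroup T} (hK : K.Normal) (hrK : ¬ ld.r ∣ Nat.card K) {p : ℕ} (hp : p.Prime) :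
    okexp ld.r ld.C p ((Nat.card K).factorization p) = true := by
  obtain ⟨hr, -, -, hloc⟩ := hl
  obtain ⟨Q, R, hQ, hR, hRQ, hQK⟩ := Cfsg.Agent.H772.S8.exists_inv hr hrT hrK hp (K := K)
  have hR'c : Nat.card (R.map T.subtype) = ld.r := by rw [card_map_of_injective T.subtype_injective, hR]
  have hCH : Nat.card (centralizer (R : Set T)) ∣ ld.C := by
    refine dvd_trans ?_ (hloc _ hR'c).1
    have h3 : (centralizer (R : Set T)).map T.subtype ≤ centralizer ((R.map T.subtype : Subgroup G) : Set G) := by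
      rintro _ ⟨a, ha, rfl⟩
      rw [mem_centralizer_iff]
      rintro _ ⟨w, hw, rfl⟩
      exact congrArg Subtype.val ((mem_centralizer_iff.1 ha) w hw)
    rw [← card_map_of_injective T.subtype_injective]
    exact card_dvd_of_le h3
  obtain ⟨j, hja, hj, hm⟩ := mod_of_inv hr hp hR hQ hRQ
  unfold okexp
  rw [List.any_eq_true]
  refine ⟨j, List.mem_range.2 (by omega), ?_⟩
  rw [Bool.and_eq_true, beq_iff_eq, beq_iff_eq]
  refine ⟨Nat.mod_eq_zero_of_dvd (hj.trans hCH), ?_⟩
  by_cases hpr : p = ld.r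
  · have h3 : (Nat.card K).factorization p = 0 := by
      rw [hpr]
      exact Nat.factorization_eq_zero_of_not_dvd hrK
    have h4 : j = 0 := by omega
    rw [h3, h4, Nat.sub_zero, pow_zero]
  · have h3 : p ^ ((Nat.card K).factorization p) = p ^ j * p ^ ((Nat.card K).factorization p - j) := by
      rw [← pow_add]
      congr 1
      omega
    have h4 : p ^ j * p ^ ((Nat.card K).factorization p - j) ≡ p ^ j * 1 [MOD ld.r] := by
      rw [← h3, mul_one]
      exact hm
    have h5 : Nat.gcd ld.r (p ^ j) = 1 := by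
      apply Nat.Coprime.pow_right
      exact (Nat.coprime_primes hr hp).2 (Ne.symm hpr)
    exact Nat.ModEq.cancel_left_of_coprime h5 h4

end Cfsg.Agent.H826.S8
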