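import Cfsg.Agent.H670.S8.FrobEng
import Cfsg.Agent.H826.S8.StructK
import Cfsg.Agent.H970.Sep.RowCo3
import Cfsg.Agent.H359.CT.McLClass
import Cfsg.Agent.BpSpor.CoThreeFive
import Cfsg.Agent.H946.S8.KCo3

/-!
# S4908, FROB row of `Co3` (helper826): the Frobenius subgroup `23 : 11`

The order engine (with the centralizers of the elements of order 5) leaves the subgroups of index 23, 46, 276, 552, 1035,
2070 and 5589; these have a simple factor `McL`, `A12` or `HS` and few classes, or a normal `3`-subgroup of order `3 ^ 5`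
that an element of order 7 cannot normalize.
-/

set_option autoImplicit false
set_option maxRecDepth 100000

namespace Cfsg.Agent.H826.S8.Co3

open Subgroup Cfsg Cfsg.Agent.OrdDiv Cfsg.Agent.H940 Cfsg.Agent.H940.Eng Cfsg.Agent.H940.Eng.D Cfsg.Agent.H704.S8
open Cfsg.Agent.H970.Sep.RowCo3 Cfsg.Agent.H670.S8

universe u

/-! ### class numbers of the simple factors -/

/-- `k(McL) = 24` -/
theorem k_mcl {S : Type} [Group S] [Finite S] (h : Spor.IsoMcL S) : Nat.card (ConjClasses S) ≤ 24 := by
  obtain ⟨f⟩ := h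
  obtain ⟨f'⟩ := Cfsg.Agent.H359.CT.McL.iso_K0
  rw [Cfsg.Agent.H772.S8.card_classes_congr (f.trans f'.symm)]
  exact Cfsg.Agent.H359.CT.McL.card_classes.le

/-- the bounds of the class numbers -/
def kap (s : ℕ) : ℕ :=
  if Nat.beq s 898128000 then 24 else if Nat.beq s 239500800 then 500 else if Nat.beq s 44352000 then 2700 else s

theorem cand_mcl : ((cands l_co3 n_co3).all fun g => !(Nat.beq (ordN g) 898128000) || decide (g = Grp.mcl)) = true := by
  decide +kernel

theorem cand_alt : ((cands l_co3 n_co3).all fun g => !(Nat.beq (ordN g) 239500800) || decide (g = Grp.alt 12)) = true := by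
  decide +kernel

theorem cand_hs : ((cands l_co3 n_co3).all fun g => !(Nat.beq (ordN g) 44352000) || decide (g = Grp.hs)) = true := by
  decide +kernel

theorem real_of (B : Base) {S : Type} [Group S] [Finite S] (hs : IsSimpleGroup S) (hna : ¬ ∀ a b : S, a * b = b * a)
    (hd : Nat.card S ∣ n_co3) {m : ℕ} (hm : Nat.card S = m) {g0 : Grp}
    (h : ((cands l_co3 n_co3).all fun g => !(Nat.beq (ordN g) m) || decide (g = g0)) = true) : Real g0 S := by
  obtain ⟨g, hg, hr, ho⟩ := exists_good B.table (B.known S hs) hna v_co3 hd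
  have h1 := List.all_eq_true.1 h g hg
  rw [Bool.or_eq_true, Bool.not_eq_true', decide_eq_true_eq] at h1
  rcases h1 with h1 | h1
  · rw [← ho, hm, Nat.beq_refl] at h1
    exact absurd h1 (by decide)
  · exact h1 ▸ hr

theorem k_le (B : Base) {S : Type} [Group S] [Finite S] (hs : IsSimpleGroup S) (hd : Nat.card S ∣ n_co3) :
    Nat.card (ConjClasses S) ≤ kap (Nat.card S) := by
  by_cases hc : ∀ a b : S, a * b = b * a
  · have hp : (Nat.card S).Prime := by
      let _ : CommGroup S := { (inferInstance : Group S) with mul_comm := hc }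
      exact IsSimpleGroup.prime_card (α := S)
    unfold kap
    split_ifs with h1 h2 h3
    · rw [Nat.eq_of_beq_eq_true h1] at hp
      exact absurd hp (by norm_num)
    · rw [Nat.eq_of_beq_eq_true h2] at hp
      exact absurd hp (by norm_num)
    · rw [Nat.eq_of_beq_eq_true h3] at hp
      exact absurd hp (by norm_num)
    · exact Cfsg.Agent.H540.ClassNum.card_conjClasses_le_card
  · unfold kap
    split_ifs with h1 h2 h3
    · exact k_mcl (real_of B hs hc hd (Nat.eq_of_beq_eq_true h1) cand_mcl)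
    · obtain ⟨e⟩ := (real_of B hs hc hd (Nat.eq_of_beq_eq_true h2) cand_alt : Nonempty (S ≃* ↥(alternatingGroup (Fin 12))))
      exact Cfsg.Agent.H946.S8.k_a12 e
    · exact Cfsg.Agent.H946.S8.k_hs (real_of B hs hc hd (Nat.eq_of_beq_eq_true h3) cand_hs)
    · exact Cfsg.Agent.H540.ClassNum.card_conjClasses_le_card

/-! ### the exceptional indices -/

/-- the exceptional indices -/
def exs : List ℕ := [552, 276, 2070, 1035, 5589, 46, 23]

/-- the test -/
def tst (i : ℕ) : Bool :=
  Nat.beq (n_co3 / i % 7) 0 && (Nat.beq (n_co3 / i % 11) 0 && (divsT l_co3).all fun k => Nat.beq (k % 11) 0 ||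
    !(pc l_co3 11 22 k) || (!(Nat.beq (k % 7) 0) && !(pc l_co3 7 42 k)) ||
    (11 :: o_co3).all fun s => !(Nat.beq (s % 11) 0) || [1, 2, 5, 10].all fun t => !(Nat.beq (k * s * t) (n_co3 / i)) ||
      Nat.ble (k * (t * kap s)) i)

theorem tst_ok : exs.all tst = true := by decide +kernel

theorem pc_of {T : Subgroup G} (hn : Nat.card G = n_co3) {ld : LD} (hf : Finite G) (hl : Loc G ld)
    (hrT : ld.r ∣ Nat.card T) {K : Subgroup T} (hK : K.Normal) (hrK : ¬ ld.r ∣ Nat.card K) :
    pc l_co3 ld.r ld.C (Nat.card K) = true := by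
  have hKn : Nat.card K ∣ n_co3 := (card_subgroup_dvd_card K).trans (hn ▸ card_subgroup_dvd_card T)
  unfold pc
  rw [List.all_eq_true]
  intro x hx
  rw [val_le v_co3 hKn x hx]
  exact okexp_of_normal hl hrT hK hrK (valid_prime v_co3 x hx)

/-- **the exceptional subgroups** -/
theorem exc (B : Base) {T : Subgroup G} (hT : T.index ∈ exs) : Nat.card (ConjClasses T) ≤ T.index := by
  have hfin := fin
  have hcT : Nat.card T * T.index = n_co3 := by rw [card_mul_index, card]
  have hipos : 0 < T.index := Nat.pos_of_ne_zero T.index_ne_zero_of_finite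
  have hm : n_co3 / T.index = Nat.card T := by rw [← hcT, Nat.mul_div_cancel _ hipos]
  have hTn : Nat.card T ∣ n_co3 := ⟨_, hcT.symm⟩
  have h0 := List.all_eq_true.1 tst_ok _ hT
  unfold tst at h0
  rw [hm, Bool.and_eq_true, Bool.and_eq_true] at h0
  obtain ⟨h7, h11, hall⟩ := h0
  have h7' : 7 ∣ Nat.card T := Nat.dvd_of_mod_eq_zero (Nat.eq_of_beq_eq_true h7)
  have h11' : 11 ∣ Nat.card T := Nat.dvd_of_mod_eq_zero (Nat.eq_of_beq_eq_true h11)
  have hl11 : Loc G ⟨11, 22, [(2, 1), (5, 1), (11, 1)]⟩ := (ctx B).loc _ (by simp [loc])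
  have hl7 : Loc G ⟨7, 42, [(2, 2), (3, 2), (7, 1)]⟩ := (ctx B).loc _ (by simp [loc])
  have hsq : ¬ 11 ^ 2 ∣ Nat.card T := fun h => absurd (h.trans hTn) (by decide +kernel)
  obtain ⟨K, s, t, hK, hrK, hc, ht, hs, S, i1, i2, hSs, hSc, hk⟩ := struct_cls (r := 11) (N := 110) (by norm_num) h11' hsq
    (fun R hR => Cfsg.Agent.H772.S8.card_normalizer_sub (fun R hR => (hl11.2.2.2 R hR).2) T hR)
  have hKn : Nat.card K ∣ n_co3 := (card_subgroup_dvd_card K).trans hTn
  have hsn : s ∣ n_co3 := dvd_trans (by rw [hc]; exact ⟨Nat.card K * t, by ring⟩) hTn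
  have h1 := List.all_eq_true.1 hall (Nat.card K) (mem_divsT (valid_prime v_co3) (by rw [valid_prod v_co3]; exact hKn))
  rw [Bool.or_eq_true, Bool.or_eq_true, Bool.or_eq_true] at h1
  have hsl : s ∈ 11 :: o_co3 := by
    by_cases hcm : ∀ a b : S, a * b = b * a
    · have hp : (Nat.card S).Prime := by
        let _ : CommGroup S := { (inferInstance : Group S) with mul_comm := hcm }
        exact IsSimpleGroup.prime_card (α := S)
      rw [hSc] at hp
      rw [← (Nat.prime_dvd_prime_iff_eq (by norm_num) hp).1 hs]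
      exact List.mem_cons_self
    · rw [← hSc]
      exact List.mem_cons_of_mem _ (ords_co3 B S hSs hcm (hSc.symm ▸ hsn))
  rcases h1 with ((h1 | h1) | h1) | h1
  · exact absurd (Nat.dvd_of_mod_eq_zero (Nat.eq_of_beq_eq_true h1)) hrK
  · rw [pc_of card hfin hl11 h11' hK hrK] at h1
    exact absurd h1 (by decide)
  · rw [Bool.and_eq_true, Bool.not_eq_true', Bool.not_eq_true'] at h1
    obtain ⟨h1, h2⟩ := h1
    have h3 : ¬ 7 ∣ Nat.card K := by
      intro h
      rw [Nat.mod_eq_zero_of_dvd h] at h1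
      exact absurd h1 (by decide)
    rw [pc_of card hfin hl7 h7' hK h3] at h2
    exact absurd h2 (by decide)
  · have h2 := List.all_eq_true.1 h1 s hsl
    rw [Bool.or_eq_true, Bool.not_eq_true', Nat.mod_eq_zero_of_dvd hs] at h2
    rcases h2 with h2 | h2
    · exact absurd h2 (by decide)
    have ht10 : t ∣ 10 := Nat.dvd_of_mul_dvd_mul_right (by norm_num : 0 < 11) ht
    have htm : t ∈ [1, 2, 5, 10] := by
      have h3 : t ∈ Nat.divisors 10 := Nat.mem_divisors.2 ⟨ht10, by norm_num⟩
      rw [show Nat.divisors 10 = {1, 2, 5, 10} by decide +kernel] at h3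
      simpa using h3
    have h3 := List.all_eq_true.1 h2 t htm
    rw [Bool.or_eq_true, Bool.not_eq_true', ← hc, Nat.beq_refl, Nat.ble_eq] at h3
    rcases h3 with h3 | h3
    · exact absurd h3 (by decide)
    · refine hk.trans (le_trans ?_ h3)
      gcongr
      rw [← hSc]
      exact k_le B hSs (hSc.symm ▸ hsn)

/-! ### the row -/

/-- centralizers of elements -/
def cls : List (List (ℕ × List ℕ)) :=
  [[(23, [23]), (11, [22]), (7, [42])], [(23, [23]), (11, [22]), (7, [42]), (5, [12000])], [(23, [23]), (11, [22])],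
    [(11, [22]), (5, [12000])]]

theorem cent_zpowers {X : Type*} [Group X] (x : X) : centralizer ((zpowers x : Subgroup X) : Set X) = centralizer {x} := by
  rw [Subgroup.zpowers_eq_closure, Subgroup.centralizer_closure]

theorem cls_ok (B : Base) : ∀ cl ∈ cls, ∀ x ∈ cl, CLoc G x := by
  have hfin := fin
  have key : ∀ ld ∈ loc, CLoc G (ld.r, [ld.C]) := by
    intro ld hld
    obtain ⟨h1, -, -, h2⟩ := (ctx B).loc ld hld
    refine ⟨h1, fun g hg => ⟨_, List.mem_singleton_self _, ?_⟩⟩
    have h3 := (h2 (zpowers g) (by rw [Nat.card_zpowers]; exact hg)).1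
    rwa [cent_zpowers] at h3
  have h7 := key ⟨7, 42, [(2, 2), (3, 2), (7, 1)]⟩ (by simp [loc])
  have h11 := key ⟨11, 22, [(2, 1), (5, 1), (11, 1)]⟩ (by simp [loc])
  have h23 := key ⟨23, 23, [(11, 1), (23, 1)]⟩ (by simp [loc])
  have h5 : CLoc G (5, [12000]) := ⟨by norm_num, fun g hg => ⟨_, List.mem_singleton_self _, by
    have h := Cfsg.Agent.BpSpor.CoThreeFive.card_dvd hg
    norm_num at h
    exact h⟩⟩
  intro cl hcl x hx
  simp only [cls, List.mem_cons, List.not_mem_nil, or_false] at hcl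
  rcases hcl with rfl | rfl | rfl | rfl <;> simp only [List.mem_cons, List.not_mem_nil, or_false] at hx <;>
    rcases hx with rfl | rfl | rfl | rfl <;> first | exact h23 | exact h11 | exact h7 | exact h5

theorem chk : allD (ftest l_co3 n_co3 1 23 11 cls [] exs 20 loc o_co3) l_co3 1 = true := by decide +kernel

theorem row' (B : Base) (D : Set ℕ) : FrobRow 1 D G := by
  have hfin := fin
  have hp : Fact (Nat.Prime 23) := ⟨by norm_num⟩
  obtain ⟨y, hy⟩ := exists_prime_orderOf_dvd_card' (G := G) 23 (by rw [card]; decide +kernel)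
  have hR : Nat.card (zpowers y) = 23 := by rw [Nat.card_zpowers, hy]
  obtain ⟨Q, hQ1, hQ2, hQ3, hQ4⟩ := frob_pair (q := 11) hp.out (by norm_num) (by norm_num) hR
    (Cfsg.Agent.H555.TwoSp.c23 iso _ hR) (by rw [Cfsg.Agent.H555.TwoSp.n23 iso _ hR]; norm_num)
  refine frobRow_of (ctx B) one_pos (cls_ok B) (adm := []) (fun h => absurd rfl h) (ex := exs) (bd := 20) hp.out hR hQ1
    hQ2 hQ3 hQ4 ?_ chk
  intro T _ _ _ hT
  rw [one_mul, ← card_mul_index T]
  exact Nat.mul_le_mul_left _ (exc B hT)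

/-- **FROB row of `Co3`** -/
theorem row (B : Base) {X : Type u} [Group X] (hX : Spor.IsoCo3 X) (D : Set ℕ) : FrobRow 1 D X := by
  obtain ⟨e⟩ := hX
  exact Cfsg.Agent.H772.S8.congr e (row' B D)

end Cfsg.Agent.H826.S8.Co3
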